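import Mathlib
import Cfsg.Agent.FastGrp
import Cfsg.Agent.Prune
set_option linter.all false
prune_inst 0x7f00000000000000000000000000000000000000000000000000000000000000000000000000000000000000000000000000000000000000000000000000000000000000000000000000000000000000003fffffffffffffffffffffffffffbeffbdffffffff
open scoped Cfsg.Agent.FastGrp

/-!
# S3499, socle `A₇`: subgroups of `A₇` (helper220)

The intersections `N ∩ A^x` (`N = A₇` the socle of the stabiliser `A`) are stabilisers of `k`-subsets, `k ≤ 3`,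
normalisers of Sylow 7-subgroups, or transitive subgroups of order `168`: at most `63 + 120 + 45 = 228` subgroups.
-/

set_option autoImplicit false

namespace Cfsg.Agent.H220.EP

open Equiv Equiv.Perm Subgroup MulAction

/-! ### Sylow counting for subgroups -/

section sylow

variable {P : Type*} [Group P] [Finite P]

/-- the subgroups of order `p` in `D` -/
def Ys (p : ℕ) (D : Subgroup P) : Set (Subgroup P) := {Y | Y ≤ D ∧ Nat.card Y = p}

omit [Finite P] in
theorem card_subgroupOf {H K : Subgroup P} (h : H ≤ K) : Nat.card (H.subgroupOf K) = Nat.card H :=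
  Nat.card_congr (subgroupOfEquivOfLe h).toEquiv

theorem factorization_one {p k : ℕ} (hp : p.Prime) (hk : ¬ p ∣ k) : (p * k).factorization p = 1 := by
  have hk0 : k ≠ 0 := by
    rintro rfl
    exact hk (dvd_zero p)
  rw [Nat.factorization_mul hp.ne_zero hk0, Finsupp.add_apply, hp.factorization_self,
    Nat.factorization_eq_zero_of_not_dvd hk]

/-- the Sylow subgroup of `D` given by `Y` -/
noncomputable def toSyl {p k : ℕ} [hp : Fact p.Prime] {D Y : Subgroup P} (hD : Nat.card D = p * k) (hk : ¬ p ∣ k)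
    (hY : Y ∈ Ys p D) : Sylow p D :=
  Sylow.ofCard (Y.subgroupOf D) (by rw [card_subgroupOf hY.1, hY.2, hD, factorization_one hp.out hk, pow_one])

theorem ncard_Ys {p k : ℕ} [hp : Fact p.Prime] {D : Subgroup P} (hD : Nat.card D = p * k) (hk : ¬ p ∣ k) :
    (Ys p D).ncard = Nat.card (Sylow p D) := by
  rw [← Nat.card_coe_set_eq]
  refine Nat.card_congr ⟨fun Y => toSyl hD hk Y.2, fun S => ⟨(S : Subgroup D).map D.subtype, ?_⟩, fun Y => ?_,
    fun S => ?_⟩
  · refine ⟨map_subtype_le _, ?_⟩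
    rw [card_map_of_injective D.subtype_injective, S.card_eq_multiplicity, hD, factorization_one hp.out hk, pow_one]
  · apply Subtype.ext
    change (Y.1.subgroupOf D).map D.subtype = Y.1
    rw [subgroupOf_map_subtype, inf_eq_left.2 Y.2.1]
  · apply Sylow.ext
    change ((S : Subgroup D).map D.subtype).subgroupOf D = S
    rw [subgroupOf, comap_map_eq_self_of_injective D.subtype_injective]

theorem modEq_Ys {p k : ℕ} [hp : Fact p.Prime] {D : Subgroup P} (hD : Nat.card D = p * k) (hk : ¬ p ∣ k) :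
    (Ys p D).ncard ≡ 1 [MOD p] := by
  rw [ncard_Ys hD hk]
  exact card_sylow_modEq_one p D

theorem ncard_Ys_mul {p k : ℕ} [hp : Fact p.Prime] {D Y : Subgroup P} (hD : Nat.card D = p * k) (hk : ¬ p ∣ k)
    (hY : Y ∈ Ys p D) : (Ys p D).ncard * Nat.card ↥(normalizer (Y : Set P) ⊓ D) = Nat.card D := by
  have h1 := Sylow.card_eq_index_normalizer (toSyl hD hk hY)
  have h2 : (normalizer ((toSyl hD hk hY : Subgroup D) : Set D)) = (normalizer (Y : Set P)).subgroupOf D :=
    (subgroupOf_normalizer_eq hY.1).symm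
  have h3 : Nat.card ((normalizer (Y : Set P)).subgroupOf D) = Nat.card ↥(normalizer (Y : Set P) ⊓ D) := by
    rw [← inf_subgroupOf_right, card_subgroupOf inf_le_right]
  rw [ncard_Ys hD hk, h1, mul_comm, ← h3]
  have h4 : (toSyl hD hk hY : Set D) = ((toSyl hD hk hY : Subgroup D) : Set D) := rfl
  rw [h4, h2]
  exact card_mul_index _

theorem exists_Ys {p : ℕ} [Fact p.Prime] {D : Subgroup P} (h : p ∣ Nat.card D) : ∃ Y, Y ∈ Ys p D := by
  obtain ⟨x, hx⟩ := exists_prime_orderOf_dvd_card' p h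
  refine ⟨zpowers (x : P), by rw [zpowers_le]; exact x.2, ?_⟩
  rw [Nat.card_zpowers, Subgroup.orderOf_coe, hx]

theorem exists_Ys_gen {p : ℕ} [Fact p.Prime] {D Y : Subgroup P} (h : Y ∈ Ys p D) :
    ∃ y, orderOf y = p ∧ Y = zpowers y := by
  obtain ⟨x, hx⟩ := exists_prime_orderOf_dvd_card' (G := Y) p (by rw [h.2])
  refine ⟨x, by rw [Subgroup.orderOf_coe, hx], ?_⟩
  symm
  refine Subgroup.eq_of_le_of_card_ge (by rw [zpowers_le]; exact x.2) ?_
  rw [Nat.card_zpowers, Subgroup.orderOf_coe, hx, h.2]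

/-- Sylow: an element of order `p` is conjugate into every Sylow subgroup -/
theorem conj_mem_of_card {G : Type*} [Group G] [Finite G] {p n k : ℕ} [hp : Fact p.Prime] (hG : Nat.card G = p ^ n * k)
    (hk : ¬ p ∣ k) (R : Subgroup G) (hR : Nat.card R = p ^ n) (c : G) (hc : orderOf c = p) :
    ∃ g : G, g * c * g⁻¹ ∈ R := by
  have hk0 : k ≠ 0 := by
    rintro rfl
    exact hk (dvd_zero p)
  have hf : (Nat.card G).factorization p = n := by
    rw [hG, Nat.factorization_mul (pow_ne_zero _ hp.out.ne_zero) hk0, Finsupp.add_apply,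
      hp.out.factorization_pow, Finsupp.single_eq_same, Nat.factorization_eq_zero_of_not_dvd hk, add_zero]
  let S : Sylow p G := Sylow.ofCard R (by rw [hR, hf])
  obtain ⟨T, hT⟩ := (show IsPGroup p (zpowers c) from IsPGroup.of_card (n := 1) (by
    rw [Nat.card_zpowers, hc, pow_one])).exists_le_sylow
  obtain ⟨g, hg⟩ := MulAction.exists_smul_eq G T S
  refine ⟨g, ?_⟩
  have h1 : g * c * g⁻¹ ∈ (g • T : Sylow p G) := by
    rw [← MulAut.conj_apply]
    exact smul_mem_pointwise_smul _ (MulAut.conj g) (T : Subgroup G) (hT (mem_zpowers _))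
  rw [hg] at h1
  exact h1

end sylow

/-! ### `S₇` -/

abbrev A7 : Subgroup (Perm (Fin 7)) := alternatingGroup (Fin 7)

theorem card_A7 : Nat.card A7 = 2520 := by
  have h : 2 * Nat.card A7 = Nat.card (Perm (Fin 7)) := two_mul_nat_card_alternatingGroup (α := Fin 7)
  rw [Nat.card_eq_fintype_card (α := Perm (Fin 7)), Fintype.card_perm, Fintype.card_fin] at h
  have h1 : Nat.factorial 7 = 5040 := by decide
  omega

theorem card_P7 : Nat.card (Perm (Fin 7)) = 5040 := by
  rw [Nat.card_eq_fintype_card (α := Perm (Fin 7)), Fintype.card_perm, Fintype.card_fin]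
  decide

instance : Fact (Nat.Prime 7) := ⟨by norm_num⟩

/-- elements of order 7 are 7-cycles -/
theorem cycleType_seven {y : Perm (Fin 7)} (hy : orderOf y = 7) : y.cycleType = {7} := by
  have h1 : ∀ n ∈ y.cycleType, n = 7 := by
    intro n hn
    have h2 : n ∣ 7 := hy ▸ dvd_of_mem_cycleType hn
    have h3 := two_le_of_mem_cycleType hn
    rcases (Nat.dvd_prime (by norm_num)).1 h2 with h | h
    · omega
    · exact h
  have h2 := Multiset.eq_replicate_of_mem h1
  have h3 : y.cycleType.sum ≤ 7 := by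
    have := y.support.card_le_univ
    rw [sum_cycleType]
    simpa using this
  rw [h2, Multiset.sum_replicate, smul_eq_mul] at h3
  have h4 : Multiset.card y.cycleType ≤ 1 := by omega
  have h5 : Multiset.card y.cycleType ≠ 0 := by
    intro h
    rw [Multiset.card_eq_zero, cycleType_eq_zero] at h
    rw [h, orderOf_one] at hy
    omega
  have h6 : Multiset.card y.cycleType = 1 := by omega
  rw [h2, h6]
  rfl

theorem isCycle_seven {y : Perm (Fin 7)} (hy : orderOf y = 7) : y.IsCycle ∧ y.support = Finset.univ := by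
  have h := cycleType_seven hy
  refine ⟨card_cycleType_eq_one.1 (by rw [h]; rfl), ?_⟩
  rw [← Finset.card_eq_iff_eq_univ, ← sum_cycleType, h]
  rfl

theorem mem_A7_of_seven {y : Perm (Fin 7)} (hy : orderOf y = 7) : y ∈ A7 := by
  rw [mem_alternatingGroup, sign_of_cycleType, cycleType_seven hy]
  rfl

/-- transitive: contains an element of order 7 -/
theorem pretrans {D : Subgroup (Perm (Fin 7))} (h : 7 ∣ Nat.card D) : IsPretransitive D (Fin 7) := by
  obtain ⟨x, hx⟩ := exists_prime_orderOf_dvd_card' 7 h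
  rw [← Subgroup.orderOf_coe] at hx
  obtain ⟨h1, h2⟩ := isCycle_seven hx
  refine ⟨fun a b => ?_⟩
  have hm : ∀ a : Fin 7, (x : Perm (Fin 7)) a ≠ a := fun a => by
    rw [← mem_support, h2]
    exact Finset.mem_univ a
  obtain ⟨i, hi⟩ := h1.sameCycle (hm a) (hm b)
  exact ⟨⟨(x : Perm (Fin 7)) ^ i, zpow_mem x.2 i⟩, hi⟩

theorem preprim {D : Subgroup (Perm (Fin 7))} (h : 7 ∣ Nat.card D) : IsPreprimitive D (Fin 7) := by
  have := pretrans h
  apply IsPreprimitive.of_prime_card
  rw [Nat.card_eq_fintype_card, Fintype.card_fin]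
  norm_num

theorem not_three {D : Subgroup (Perm (Fin 7))} (h : 7 ∣ Nat.card D) (hD : ¬ A7 ≤ D) {z : Perm (Fin 7)}
    (hz : z.IsThreeCycle) : z ∉ D := fun hzD =>
  hD (alternatingGroup_le_of_isPreprimitive_of_isThreeCycle_mem (preprim h) hz hzD)

theorem not_nine {D : Subgroup (Perm (Fin 7))} (hDA : D ≤ A7) (h : 7 ∣ Nat.card D) (hD : ¬ A7 ≤ D) :
    ¬ 9 ∣ Nat.card D := by
  intro h9
  have h3 : Fact (Nat.Prime 3) := ⟨Nat.prime_three⟩
  obtain ⟨R, hR⟩ := Sylow.exists_subgroup_card_pow_prime (G := D) 3 (n := 2) (by norm_num only []; exact h9)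
  have hle : R.map D.subtype ≤ A7 := (map_subtype_le R).trans hDA
  have hc : (swap (0 : Fin 7) 1 * swap (1 : Fin 7) 2 : Perm (Fin 7)).IsThreeCycle := by
    rw [← card_support_eq_three_iff]
    decide
  have hcA : (swap (0 : Fin 7) 1 * swap (1 : Fin 7) 2 : Perm (Fin 7)) ∈ A7 := hc.mem_alternatingGroup
  obtain ⟨g, hg⟩ := conj_mem_of_card (p := 3) (n := 2) (k := 280) (G := A7) (by rw [card_A7]; norm_num) (by norm_num)
    ((R.map D.subtype).subgroupOf A7)
    (by rw [card_subgroupOf hle, card_map_of_injective D.subtype_injective, hR]) ⟨_, hcA⟩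
    (by rw [Subgroup.orderOf_mk, hc.orderOf])
  have h2 : (g : Perm (Fin 7)) * (swap (0 : Fin 7) 1 * swap (1 : Fin 7) 2) * (g : Perm (Fin 7))⁻¹ ∈ R.map D.subtype := hg
  refine not_three h hD ?_ (map_subtype_le R h2)
  rw [IsThreeCycle, cycleType_conj]
  exact hc

/-- the centraliser of a 7-cycle -/
theorem card_cent_seven {y : Perm (Fin 7)} (hy : orderOf y = 7) : Nat.card (centralizer ({y} : Set (Perm (Fin 7)))) = 7 := by
  rw [nat_card_centralizer, cycleType_seven hy]
  simp

theorem cent_Y {Y : Subgroup (Perm (Fin 7))} (hY : Nat.card Y = 7) : Nat.card (centralizer (Y : Set (Perm (Fin 7)))) = 7 := by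
  obtain ⟨y, hy, rfl⟩ := exists_Ys_gen (p := 7) (D := ⊤) ⟨le_top, hY⟩
  have : centralizer ((zpowers y : Subgroup (Perm (Fin 7))) : Set (Perm (Fin 7))) = centralizer {y} := by
    rw [zpowers_eq_closure, centralizer_closure]
  rw [this, card_cent_seven hy]

theorem card_norm_dvd {Y : Subgroup (Perm (Fin 7))} (hY : Nat.card Y = 7) :
    Nat.card (normalizer (Y : Set (Perm (Fin 7)))) ∣ 42 := by
  have h1 := card_mul_index Y.normalizerMonoidHom.ker
  rw [index_ker] at h1
  have h2 : Nat.card Y.normalizerMonoidHom.ker = 7 := by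
    rw [normalizerMonoidHom_ker, card_subgroupOf (centralizer_le_normalizer _), cent_Y hY]
  have h3 : Nat.card Y.normalizerMonoidHom.range ∣ 6 := by
    have hc : IsCyclic Y := isCyclic_of_prime_card (p := 7) hY
    have h4 : Nat.card (MulAut Y) = 6 := by
      rw [hc.card_mulAut, hY]
      decide
    rw [← h4]
    exact card_subgroup_dvd_card _
  rw [← h1, h2]
  exact Nat.mul_dvd_mul_left 7 h3

theorem Y_le_A7 {Y : Subgroup (Perm (Fin 7))} (hY : Nat.card Y = 7) : Y ≤ A7 := by
  obtain ⟨y, hy, rfl⟩ := exists_Ys_gen (p := 7) (D := ⊤) ⟨le_top, hY⟩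
  rw [zpowers_le]
  exact mem_A7_of_seven hy

theorem seven_k : Nat.card A7 = 7 * 360 := card_A7

/-- normaliser in `A7` of a Sylow 7-subgroup, and their number -/
theorem norm_A7 {Y : Subgroup (Perm (Fin 7))} (hY : Nat.card Y = 7) :
    Nat.card ↥(normalizer (Y : Set (Perm (Fin 7))) ⊓ A7) = 21 ∧ (Ys 7 A7).ncard = 120 := by
  have h1 := ncard_Ys_mul seven_k (by norm_num) (Y := Y) ⟨Y_le_A7 hY, hY⟩
  have h2 := modEq_Ys seven_k (by norm_num)
  have h3 : Nat.card ↥(normalizer (Y : Set (Perm (Fin 7))) ⊓ A7) ∣ 42 :=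
    (card_dvd_of_le inf_le_left).trans (card_norm_dvd hY)
  have h4 : 7 ∣ Nat.card ↥(normalizer (Y : Set (Perm (Fin 7))) ⊓ A7) := by
    have := card_dvd_of_le (le_inf le_normalizer (Y_le_A7 hY) : Y ≤ normalizer (Y : Set (Perm (Fin 7))) ⊓ A7)
    rwa [hY] at this
  rw [card_A7] at h1
  set a := (Ys 7 A7).ncard
  set b := Nat.card ↥(normalizer (Y : Set (Perm (Fin 7))) ⊓ A7)
  obtain ⟨c, hc⟩ := h4
  rw [hc] at h3
  have h5 : c ∣ 6 := by
    rw [show 42 = 7 * 6 by norm_num] at h3
    exact Nat.dvd_of_mul_dvd_mul_left (by norm_num) h3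
  have h6 : c ≤ 6 := Nat.le_of_dvd (by norm_num) h5
  unfold Nat.ModEq at h2
  rw [hc] at h1 ⊢
  interval_cases c
  · omega
  · omega
  · omega
  · omega
  · omega
  · omega
  · omega

theorem card_Ys : (Ys 7 (⊤ : Subgroup (Perm (Fin 7)))).ncard = 120 := by
  have h : Ys 7 (⊤ : Subgroup (Perm (Fin 7))) = Ys 7 A7 := by
    ext Y
    exact ⟨fun h => ⟨Y_le_A7 h.2, h.2⟩, fun h => ⟨le_top, h.2⟩⟩
  rw [h]
  obtain ⟨Y, hY⟩ := exists_Ys (P := Perm (Fin 7)) (p := 7) (D := A7) (by rw [card_A7]; norm_num)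
  exact (norm_A7 hY.2).2

/-! ### transitive subgroups of `A7` -/

/-- a normal subgroup of order prime to 7 of a transitive group is trivial -/
theorem normal_seven' {D : Subgroup (Perm (Fin 7))} (h7 : 7 ∣ Nat.card D) (K : Subgroup D) [K.Normal]
    (hK : ¬ 7 ∣ Nat.card K) : K = ⊥ := by
  have hD := preprim h7
  by_contra hne
  apply hK
  have hfix : fixedPoints K (Fin 7) ≠ Set.univ := by
    intro h
    apply hne
    rw [Subgroup.eq_bot_iff_forall]
    intro k hk
    apply Subtype.ext
    ext a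
    have h1 : a ∈ fixedPoints K (Fin 7) := by rw [h]; exact Set.mem_univ a
    exact congrArg Fin.val (h1 ⟨k, hk⟩)
  have h1 : IsPretransitive K (Fin 7) := IsQuasiPreprimitive.isPretransitive_of_normal hfix
  have h2 : (stabilizer K (0 : Fin 7)).index = 7 := by
    rw [index_stabilizer, orbit_eq_univ, Set.ncard_univ, Nat.card_eq_fintype_card, Fintype.card_fin]
  have h3 := index_dvd_card (stabilizer K (0 : Fin 7))
  rwa [h2] at h3

theorem dich {D Y : Subgroup (Perm (Fin 7))} (hDA : D ≤ A7) (hD : ¬ A7 ≤ D) (hY : Y ∈ Ys 7 D) :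
    D ≤ normalizer (Y : Set (Perm (Fin 7))) ∨
      (Nat.card D = 168 ∧ normalizer (Y : Set (Perm (Fin 7))) ⊓ A7 ≤ D ∧ (Ys 7 D).ncard = 8) := by
  have h7 : 7 ∣ Nat.card D := by
    have := card_dvd_of_le hY.1
    rwa [hY.2] at this
  have hdvd : Nat.card D ∣ 2520 := by
    rw [← card_A7]
    exact card_dvd_of_le hDA
  obtain ⟨k, hk⟩ := h7
  have hk7 : ¬ 7 ∣ k := by
    rintro ⟨l, rfl⟩
    rw [hk, ← mul_assoc] at hdvd
    have : (7 * 7) ∣ 2520 := (Dvd.intro _ rfl).trans hdvd
    norm_num at this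
  have h1 := ncard_Ys_mul hk hk7 hY
  have h2 := modEq_Ys hk hk7
  obtain ⟨h21, -⟩ := norm_A7 hY.2
  have hNle : normalizer (Y : Set (Perm (Fin 7))) ⊓ D ≤ normalizer (Y : Set (Perm (Fin 7))) ⊓ A7 :=
    inf_le_inf_left _ hDA
  have h3 : Nat.card ↥(normalizer (Y : Set (Perm (Fin 7))) ⊓ D) ∣ 21 := by
    rw [← h21]
    exact card_dvd_of_le hNle
  have h4 : 7 ∣ Nat.card ↥(normalizer (Y : Set (Perm (Fin 7))) ⊓ D) := by
    have := card_dvd_of_le (le_inf le_normalizer hY.1 : Y ≤ normalizer (Y : Set (Perm (Fin 7))) ⊓ D)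
    rwa [hY.2] at this
  have h5 : Nat.card ↥(normalizer (Y : Set (Perm (Fin 7))) ⊓ D) = 7 ∨
      Nat.card ↥(normalizer (Y : Set (Perm (Fin 7))) ⊓ D) = 21 := by
    obtain ⟨c, hc⟩ := h4
    rw [hc] at h3
    have h6 : c ∣ 3 := by
      rw [show 21 = 7 * 3 by norm_num] at h3
      exact Nat.dvd_of_mul_dvd_mul_left (by norm_num) h3
    rcases (Nat.dvd_prime Nat.prime_three).1 h6 with h | h <;> rw [hc, h] <;> simp
  rcases h5 with h5 | h5
  · left
    -- Burnside
    let S := toSyl hk hk7 hY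
    have hNY : normalizer (Y : Set (Perm (Fin 7))) ⊓ D = Y := by
      symm
      refine Subgroup.eq_of_le_of_card_ge (le_inf le_normalizer hY.1) ?_
      rw [h5, hY.2]
    have hab : ∀ a ∈ Y, ∀ b ∈ Y, a * b = b * a := by
      have hc : IsCyclic Y := isCyclic_of_prime_card (p := 7) hY.2
      intro a ha b hb
      have := hc.isMulCommutative.is_comm.comm (⟨a, ha⟩ : Y) ⟨b, hb⟩
      exact congrArg Subtype.val this
    have hS : normalizer ((S : Subgroup D) : Set D) ≤ centralizer (S : Set D) := by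
      intro g hg
      have h6 : normalizer ((S : Subgroup D) : Set D) = (normalizer (Y : Set (Perm (Fin 7)))).subgroupOf D :=
        (subgroupOf_normalizer_eq hY.1).symm
      rw [h6] at hg
      have h8 : (g : Perm (Fin 7)) ∈ Y := by
        rw [← hNY]
        exact ⟨hg, g.2⟩
      rw [mem_centralizer_iff]
      intro s hs
      have hs' : (s : Perm (Fin 7)) ∈ Y := hs
      exact Subtype.ext (hab _ hs' _ h8)
    have h6 := MonoidHom.not_dvd_card_ker_transferSylow S hS
    have h8 := MonoidHom.ker_transferSylow_isComplement' S hS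
    have h9 : (MonoidHom.transferSylow S hS).ker = ⊥ := normal_seven' ⟨k, hk⟩ _ h6
    have h10 := h8.card_mul_card
    rw [h9, card_bot, one_mul] at h10
    have h11 : Nat.card D = 7 := by
      rw [← h10]
      change Nat.card (Y.subgroupOf D) = 7
      rw [card_subgroupOf hY.1, hY.2]
    have h12 : Y = D := Subgroup.eq_of_le_of_card_ge hY.1 (by rw [h11, hY.2])
    rw [← h12]
    exact le_normalizer
  · have h9 := not_nine hDA ⟨k, hk⟩ hD
    rw [h5] at h1
    set a := (Ys 7 D).ncard with ha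
    have h6 : a ∣ 120 := by
      rw [← h1, show 2520 = 120 * 21 by norm_num] at hdvd
      exact Nat.dvd_of_mul_dvd_mul_right (by norm_num) hdvd
    have h8 : ¬ 3 ∣ a := by
      rintro ⟨b, hb⟩
      apply h9
      rw [← h1, hb]
      exact ⟨7 * b, by ring⟩
    have h10 : a ∣ 40 := by
      have h11 : Nat.Coprime a 3 := ((Nat.Prime.coprime_iff_not_dvd Nat.prime_three).2 h8).symm
      rw [show 120 = 3 * 40 by norm_num] at h6
      exact h11.dvd_of_dvd_mul_left h6
    have h11 : a = 1 ∨ a = 8 := by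
      have h12 : a ≤ 40 := Nat.le_of_dvd (by norm_num) h10
      unfold Nat.ModEq at h2
      clear_value a
      interval_cases a <;> (clear * - hk hk7 h1 h2 h9 h6; omega)
    rcases h11 with h11 | h11
    · left
      rw [h11, one_mul] at h1
      have : normalizer (Y : Set (Perm (Fin 7))) ⊓ D = D :=
        Subgroup.eq_of_le_of_card_ge inf_le_right (by rw [h5, ← h1])
      rw [← this]
      exact inf_le_left
    · right
      rw [h11] at h1
      refine ⟨h1.symm, ?_, h11⟩
      have : normalizer (Y : Set (Perm (Fin 7))) ⊓ D = normalizer (Y : Set (Perm (Fin 7))) ⊓ A7 :=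
        Subgroup.eq_of_le_of_card_ge hNle (by rw [h5, h21])
      rw [← this]
      exact inf_le_right

/-! ### subgroups of order 168 -/

theorem ncard_mul_le {α β : Type*} [Finite α] [Finite β] (s : Set α) (t : Set β) (r : α → β → Prop) {m n : ℕ}
    (hm : ∀ a ∈ s, m ≤ {b | b ∈ t ∧ r a b}.ncard) (hn : ∀ b ∈ t, {a | a ∈ s ∧ r a b}.ncard ≤ n) :
    s.ncard * m ≤ t.ncard * n := by
  classical
  have h := Finset.card_mul_le_card_mul (s := s.toFinite.toFinset) (t := t.toFinite.toFinset) r (m := m) (n := n)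
    (by
      intro a ha
      refine (hm a (by simpa using ha)).trans ?_
      rw [Set.ncard_eq_toFinset_card _ (Set.toFinite _)]
      apply le_of_eq
      congr 1
      ext b
      simp [Finset.bipartiteAbove])
    (by
      intro b hb
      refine le_trans ?_ (hn b (by simpa using hb))
      rw [Set.ncard_eq_toFinset_card _ (Set.toFinite _)]
      apply le_of_eq
      congr 1
      ext a
      simp [Finset.bipartiteBelow])
  rwa [← Set.ncard_eq_toFinset_card, ← Set.ncard_eq_toFinset_card] at h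

/-- cycle type of the elements of order 3 in the normaliser of `Y` -/
theorem cycleType_three {z : Perm (Fin 7)} (hz : orderOf z = 3) (h3 : ¬ z.IsThreeCycle) : z.cycleType = {3, 3} := by
  have h1 : ∀ n ∈ z.cycleType, n = 3 := by
    intro n hn
    have h2 : n ∣ 3 := hz ▸ dvd_of_mem_cycleType hn
    have h3 := two_le_of_mem_cycleType hn
    rcases (Nat.dvd_prime (by norm_num)).1 h2 with h | h
    · omega
    · exact h
  have h2 := Multiset.eq_replicate_of_mem h1
  have h4 : z.cycleType.sum ≤ 7 := by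
    have := z.support.card_le_univ
    rw [sum_cycleType]
    simpa using this
  rw [h2, Multiset.sum_replicate, smul_eq_mul] at h4
  have h5 : Multiset.card z.cycleType ≠ 0 := by
    intro h
    rw [Multiset.card_eq_zero, cycleType_eq_zero] at h
    rw [h, orderOf_one] at hz
    omega
  have h6 : Multiset.card z.cycleType ≠ 1 := by
    intro h
    apply h3
    rw [IsThreeCycle, h2, h]
    rfl
  have h7 : Multiset.card z.cycleType = 2 := by omega
  rw [h2, h7]
  rfl

/-- the centraliser in `A7` of an element of type `(3,3)` has order at most 9 -/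
theorem card_cent_three {z : Perm (Fin 7)} (hz : z.cycleType = {3, 3}) :
    Nat.card ↥(centralizer ({z} : Set (Perm (Fin 7))) ⊓ A7) ≤ 9 := by
  have h18 : Nat.card (centralizer ({z} : Set (Perm (Fin 7)))) = 18 := by
    rw [nat_card_centralizer, hz]
    simp only [Fintype.card_fin]
    decide
  have hconj : IsConj (swap (0 : Fin 7) 1 * swap (1 : Fin 7) 2 * (swap (3 : Fin 7) 4 * swap (4 : Fin 7) 5) : Perm (Fin 7)) z := by
    rw [isConj_iff_cycleType_eq, hz]
    have hd : _root_.Equiv.Perm.Disjoint (swap (0 : Fin 7) 1 * swap (1 : Fin 7) 2 : Perm (Fin 7)) (swap (3 : Fin 7) 4 * swap (4 : Fin 7) 5) := by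
      intro x
      fin_cases x <;> decide
    have h1 : (swap (0 : Fin 7) 1 * swap (1 : Fin 7) 2 : Perm (Fin 7)).IsThreeCycle := by
      rw [← card_support_eq_three_iff]
      decide
    have h2 : (swap (3 : Fin 7) 4 * swap (4 : Fin 7) 5 : Perm (Fin 7)).IsThreeCycle := by
      rw [← card_support_eq_three_iff]
      decide
    rw [hd.cycleType_mul, h1.cycleType, h2.cycleType]
    rfl
  obtain ⟨g, hg⟩ := isConj_iff.1 hconj
  -- an odd element centralising `z`
  set u : Perm (Fin 7) := swap (0 : Fin 7) 3 * swap (1 : Fin 7) 4 * swap (2 : Fin 7) 5 with hu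
  have hcom : u * (swap (0 : Fin 7) 1 * swap (1 : Fin 7) 2 * (swap (3 : Fin 7) 4 * swap (4 : Fin 7) 5)) = (swap (0 : Fin 7) 1 * swap (1 : Fin 7) 2 * (swap (3 : Fin 7) 4 * swap (4 : Fin 7) 5)) * u := by
    rw [hu]
    decide
  have hodd : sign u = -1 := by
    rw [hu]
    decide
  have hs : g * u * g⁻¹ ∈ centralizer ({z} : Set (Perm (Fin 7))) := by
    rw [mem_centralizer_singleton_iff, ← hg]
    calc g * u * g⁻¹ * (g * (swap (0 : Fin 7) 1 * swap (1 : Fin 7) 2 * (swap (3 : Fin 7) 4 * swap (4 : Fin 7) 5)) * g⁻¹)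
        = g * (u * (swap (0 : Fin 7) 1 * swap (1 : Fin 7) 2 * (swap (3 : Fin 7) 4 * swap (4 : Fin 7) 5))) * g⁻¹ := by group
      _ = g * ((swap (0 : Fin 7) 1 * swap (1 : Fin 7) 2 * (swap (3 : Fin 7) 4 * swap (4 : Fin 7) 5)) * u) * g⁻¹ := by rw [hcom]
      _ = _ := by group
  have hs' : g * u * g⁻¹ ∉ A7 := by
    rw [mem_alternatingGroup, map_mul, map_mul, map_inv, hodd]
    intro h
    have : sign g * -1 * (sign g)⁻¹ = -1 := by
      rw [mul_comm (sign g), mul_assoc, mul_inv_cancel, mul_one]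
    rw [this] at h
    exact absurd h (by decide)
  have hlt : centralizer ({z} : Set (Perm (Fin 7))) ⊓ A7 < centralizer ({z} : Set (Perm (Fin 7))) :=
    lt_of_le_of_ne inf_le_left fun h => hs' (by
      have h1 : g * u * g⁻¹ ∈ centralizer ({z} : Set (Perm (Fin 7))) ⊓ A7 := by rw [h]; exact hs
      exact h1.2)
  have hdvd := card_dvd_of_le hlt.le
  have hne : Nat.card ↥(centralizer ({z} : Set (Perm (Fin 7))) ⊓ A7) ≠ 18 := by
    intro h
    apply hlt.ne
    exact Subgroup.eq_of_le_of_card_ge inf_le_left (by rw [h, h18])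
  rw [h18] at hdvd
  obtain ⟨k, hk⟩ := hdvd
  rcases Nat.lt_or_ge k 2 with h | h
  · interval_cases k
    · omega
    · omega
  · by_contra h9
    have : 10 * 2 ≤ Nat.card ↥(centralizer ({z} : Set (Perm (Fin 7))) ⊓ A7) * k := Nat.mul_le_mul (by omega) h
    omega

/-- the elements of `A7` inverting `z` -/
def TT (z : Perm (Fin 7)) : Set (Perm (Fin 7)) := {t | t ∈ A7 ∧ t * z * t⁻¹ = z⁻¹}

theorem ncard_TT {z : Perm (Fin 7)} (hz : z.cycleType = {3, 3}) : (TT z).ncard ≤ 9 := by
  rcases (TT z).eq_empty_or_nonempty with h | ⟨t, ht⟩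
  · rw [h, Set.ncard_empty]
    omega
  · refine le_trans ?_ (card_cent_three hz)
    rw [← Nat.card_coe_set_eq]
    refine Nat.card_le_card_of_injective
      (fun s : TT z => (⟨t⁻¹ * s, ?_⟩ : ↥(centralizer ({z} : Set (Perm (Fin 7))) ⊓ A7))) ?_
    · refine ⟨?_, A7.mul_mem (A7.inv_mem ht.1) s.2.1⟩
      change t⁻¹ * (s : Perm (Fin 7)) ∈ centralizer ({z} : Set (Perm (Fin 7)))
      rw [mem_centralizer_singleton_iff]
      have h1 : (s : Perm (Fin 7)) * z = z⁻¹ * s := by rw [← s.2.2]; group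
      have h2 : t * z = z⁻¹ * t := by rw [← ht.2]; group
      have h3 : t⁻¹ * z⁻¹ = z * t⁻¹ := by
        rw [inv_mul_eq_iff_eq_mul, ← mul_assoc, h2]
        group
      rw [mul_assoc, h1, ← mul_assoc, h3, mul_assoc]
    · intro s s' h
      have h1 := congrArg Subtype.val h
      exact Subtype.ext (mul_left_cancel h1)

/-- a subgroup of order 168 contains elements inverting `z` -/
theorem exists_TT {D : Subgroup (Perm (Fin 7))} (hDA : D ≤ A7) (hc : Nat.card D = 168)
    {z : Perm (Fin 7)} (hz3 : orderOf z = 3) (hzD : z ∈ D) : 3 ≤ {t | t ∈ TT z ∧ t ∈ D}.ncard := by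
  have : Fact (Nat.Prime 3) := ⟨Nat.prime_three⟩
  have hz1 : z * z * z = 1 := by
    rw [← pow_orderOf_eq_one z, hz3, pow_succ, pow_two]
  have hzne : z ≠ 1 := by
    rintro rfl
    rw [orderOf_one] at hz3
    omega
  have key : ∃ t ∈ D, t * z * t⁻¹ = z⁻¹ := by
    by_contra hno
    push Not at hno
    have hZ : zpowers z ∈ Ys 3 D := ⟨by rw [zpowers_le]; exact hzD, by rw [Nat.card_zpowers, hz3]⟩
    have h56 : Nat.card D = 3 * 56 := hc
    let S := toSyl h56 (by norm_num) hZ
    have hS : normalizer ((S : Subgroup D) : Set D) ≤ centralizer (S : Set D) := by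
      intro g hg
      have h6 : normalizer ((S : Subgroup D) : Set D) =
          (normalizer ((zpowers z : Subgroup (Perm (Fin 7))) : Set (Perm (Fin 7)))).subgroupOf D :=
        (subgroupOf_normalizer_eq hZ.1).symm
      rw [h6] at hg
      have h7 := (mem_normalizer_iff.1 (mem_subgroupOf.1 hg) z).1 (mem_zpowers z)
      have h8 : (g : Perm (Fin 7)) * z * (g : Perm (Fin 7))⁻¹ = z := by
        obtain ⟨k, hk⟩ := mem_zpowers_iff.1 h7
        have h9 : z ^ k = z ^ (k % 3) := by
          rw [← zpow_mod_orderOf z k, hz3]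
          rfl
        have h10 : k % 3 = 0 ∨ k % 3 = 1 ∨ k % 3 = 2 := by omega
        rw [h9] at hk
        rcases h10 with h10 | h10 | h10
        · exfalso
          rw [h10, zpow_zero] at hk
          apply hzne
          rw [eq_comm, mul_inv_eq_one, mul_eq_left] at hk
          exact hk
        · rw [h10, zpow_one] at hk
          exact hk.symm
        · exfalso
          apply hno _ g.2
          rw [← hk, h10, eq_inv_iff_mul_eq_one]
          exact_mod_cast hz1
      rw [mem_centralizer_iff]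
      intro s hs
      have hs' : (s : Perm (Fin 7)) ∈ zpowers z := hs
      obtain ⟨k, hk⟩ := mem_zpowers_iff.1 hs'
      apply Subtype.ext
      have h11 : Commute (g : Perm (Fin 7)) z := mul_inv_eq_iff_eq_mul.1 h8
      have h12 := (h11.zpow_right k).eq
      rw [hk] at h12
      exact h12.symm
    have h6 := MonoidHom.not_dvd_card_ker_transferSylow S hS
    have h8 := MonoidHom.ker_transferSylow_isComplement' S hS
    have h10 := h8.card_mul_card
    have h11 : Nat.card ((S : Subgroup D)) = 3 := by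
      change Nat.card ((zpowers z).subgroupOf D) = 3
      rw [card_subgroupOf hZ.1, hZ.2]
    rw [h11, hc] at h10
    have h12 : Nat.card ((MonoidHom.transferSylow S hS).ker.map D.subtype) = 56 := by
      rw [card_map_of_injective D.subtype_injective]
      omega
    have hK : (MonoidHom.transferSylow S hS).ker.map D.subtype ≤ A7 := (map_subtype_le _).trans hDA
    obtain ⟨Y', hY'⟩ := exists_Ys (p := 7) (D := (MonoidHom.transferSylow S hS).ker.map D.subtype)
      (by rw [h12]; norm_num)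
    rcases dich hK (fun h => by
      have h13 := card_dvd_of_le h
      rw [h12, card_A7] at h13
      norm_num at h13) hY' with h13 | h13
    · have h14 := (card_dvd_of_le h13).trans (card_norm_dvd hY'.2)
      rw [h12] at h14
      norm_num at h14
    · have h14 := h13.1
      rw [h12] at h14
      norm_num at h14
  obtain ⟨t, htD, ht⟩ := key
  have hm : ∀ i : ℕ, z ^ i * t ∈ {t | t ∈ TT z ∧ t ∈ D} := by
    intro i
    refine ⟨⟨A7.mul_mem (A7.pow_mem (hDA hzD) i) (hDA htD), ?_⟩, D.mul_mem (D.pow_mem hzD i) htD⟩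
    rw [mul_inv_rev]
    calc z ^ i * t * z * (t⁻¹ * (z ^ i)⁻¹) = z ^ i * (t * z * t⁻¹) * (z ^ i)⁻¹ := by group
      _ = z⁻¹ := by
        rw [ht]
        group
  have hsub : (fun i : Fin 3 => z ^ (i : ℕ) * t) '' Set.univ ⊆ {t | t ∈ TT z ∧ t ∈ D} := by
    rintro _ ⟨i, -, rfl⟩
    exact hm i
  refine le_trans ?_ (Set.ncard_le_ncard hsub (Set.toFinite _))
  rw [Set.ncard_image_of_injective, Set.ncard_univ, Nat.card_eq_fintype_card, Fintype.card_fin]
  intro i j hij
  have h1 : z ^ (i : ℕ) = z ^ (j : ℕ) := mul_right_cancel hij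
  rw [pow_inj_mod, hz3, Nat.mod_eq_of_lt i.2, Nat.mod_eq_of_lt j.2] at h1
  exact Fin.ext h1

/-- the subgroups of `A7` of order 168 -/
def F7 : Set (Subgroup (Perm (Fin 7))) := {D | D ≤ A7 ∧ Nat.card D = 168}

theorem not_A7_le {D : Subgroup (Perm (Fin 7))} (h : Nat.card D = 168) : ¬ A7 ≤ D := by
  intro h1
  have h2 := card_dvd_of_le h1
  rw [card_A7, h] at h2
  norm_num at h2

/-- at most three subgroups of order 168 contain a given subgroup of order 7 -/
theorem ncard_F7_Y {Y : Subgroup (Perm (Fin 7))} (hY : Nat.card Y = 7) : {D | D ∈ F7 ∧ Y ≤ D}.ncard ≤ 3 := by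
  have : Fact (Nat.Prime 3) := ⟨Nat.prime_three⟩
  obtain ⟨h21, -⟩ := norm_A7 hY
  obtain ⟨⟨z, hzB⟩, hz⟩ := exists_prime_orderOf_dvd_card' (G := ↥(normalizer (Y : Set (Perm (Fin 7))) ⊓ A7)) 3
    (by rw [h21]; norm_num)
  rw [Subgroup.orderOf_mk] at hz
  have hz3 : ¬ z.IsThreeCycle := by
    intro h
    refine not_three (D := normalizer (Y : Set (Perm (Fin 7))) ⊓ A7) (by rw [h21]; norm_num) ?_ h hzB
    intro h1
    have h2 := card_dvd_of_le h1
    rw [card_A7, h21] at h2
    norm_num at h2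
  have hT := ncard_TT (cycleType_three hz hz3)
  have hB : ∀ D ∈ {D | D ∈ F7 ∧ Y ≤ D}, normalizer (Y : Set (Perm (Fin 7))) ⊓ A7 ≤ D := by
    rintro D ⟨⟨h1, h2⟩, h3⟩
    rcases dich h1 (not_A7_le h2) ⟨h3, hY⟩ with h4 | h4
    · exfalso
      have h5 := (card_dvd_of_le h4).trans (card_norm_dvd hY)
      rw [h2] at h5
      norm_num at h5
    · exact h4.2.1
  have h := ncard_mul_le {D | D ∈ F7 ∧ Y ≤ D} (TT z) (fun D t => t ∈ D) (m := 3) (n := 1)
    (fun D hD => exists_TT hD.1.1 hD.1.2 hz (hB D hD hzB)) (by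
      intro t ht
      rw [Set.ncard_le_one (Set.toFinite _)]
      rintro D ⟨hD, htD⟩ D' ⟨hD', htD'⟩
      by_contra hne
      have hJA : D ⊓ D' ≤ A7 := inf_le_left.trans hD.1.1
      rcases dich hJA (fun h => not_A7_le hD.1.2 (h.trans inf_le_left)) ⟨le_inf hD.2 hD'.2, hY⟩ with h4 | h4
      · have h5 : t ∈ normalizer (Y : Set (Perm (Fin 7))) ⊓ A7 := ⟨h4 ⟨htD, htD'⟩, ht.1⟩
        have h6 : orderOf t ∣ 21 := by
          have := _root_.orderOf_dvd_natCard (⟨t, h5⟩ : ↥(normalizer (Y : Set (Perm (Fin 7))) ⊓ A7))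
          rwa [Subgroup.orderOf_mk, h21] at this
        have h8 : t * z = z⁻¹ * t := by rw [← ht.2]; group
        have h9 : Commute (t * t) z := by
          change t * t * z = z * (t * t)
          rw [mul_assoc, h8, ← mul_assoc]
          have h10 : t * z⁻¹ = z * t := by
            rw [mul_inv_eq_iff_eq_mul, mul_assoc, h8]
            group
          rw [h10, mul_assoc]
        have h10 : t = (t * t) ^ 11 := by
          have h11 : t ^ 21 = 1 := orderOf_dvd_iff_pow_eq_one.1 h6
          rw [← pow_two, ← pow_mul]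
          calc t = t ^ 21 * t := by rw [h11, one_mul]
            _ = t ^ (2 * 11) := by rw [← pow_succ]
        have h11 : Commute t z := by
          rw [h10]
          exact h9.pow_left 11
        have h12 : z = z⁻¹ := by
          rw [← ht.2, h11.eq]
          group
        have h13 : z ^ 2 = 1 := by
          rw [pow_two]
          exact mul_eq_one_iff_eq_inv.2 h12
        have h14 := orderOf_dvd_of_pow_eq_one h13
        rw [hz] at h14
        norm_num at h14
      · apply hne
        have h5 : D ⊓ D' = D := Subgroup.eq_of_le_of_card_ge inf_le_left (by rw [h4.1, hD.1.2])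
        have h6 : D ⊓ D' = D' := Subgroup.eq_of_le_of_card_ge inf_le_right (by rw [h4.1, hD'.1.2])
        rw [← h5, h6])
  omega

theorem ncard_F7 : F7.ncard ≤ 45 := by
  obtain ⟨Y, hY⟩ := exists_Ys (P := Perm (Fin 7)) (p := 7) (D := A7) (by rw [card_A7]; norm_num)
  obtain ⟨-, h120⟩ := norm_A7 hY.2
  have h := ncard_mul_le F7 (Ys 7 A7) (fun D Y => Y ≤ D) (m := 8) (n := 3) (by
    intro D hD
    obtain ⟨Y, hY⟩ := exists_Ys (p := 7) (D := D) (by rw [hD.2]; norm_num)
    rcases dich hD.1 (not_A7_le hD.2) hY with h4 | h4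
    · exfalso
      have h5 := (card_dvd_of_le h4).trans (card_norm_dvd hY.2)
      rw [hD.2] at h5
      norm_num at h5
    · rw [← h4.2.2]
      refine Set.ncard_le_ncard ?_ (Set.toFinite _)
      rintro X ⟨hX, hX7⟩
      exact ⟨⟨hX.trans hD.1, hX7⟩, hX⟩) (fun Y hY => ncard_F7_Y hY.2)
  omega

end Cfsg.Agent.H220.EP
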